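import Mathlib
import Groth.Prelude.Def_HTop
import Groth.Prelude.Def_BlowUp2
import Groth.Agent.S14770
import Groth.Agent.Lib.Helper1.Subtr1
import Groth.Agent.Lib.Helper1.ValLift
import Groth.Agent.Lib.Lead.QC.BlowUpBasic

/-!
# An open of a blow-up which is an h-covering of the base is everything (helper5)
-/

set_option autoImplicit false

universe u

open CategoryTheory CategoryTheory.Limits AlgebraicGeometry TopologicalSpace IsLocalRing

namespace Groth.Agent.H5.HBl

open Groth.Agent.Lib.Helper1.ValLift Groth.Agent.Lib.Helper1.Subtr1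

/-- every point has a generization outside an effective Cartier divisor -/
theorem exists_generization_notMem_support {X : Scheme.{u}} (D : X.IdealSheafData)
    (hD : BlowUp.IsEffCartierIdeal D) (x : X) : ∃ ξ : X, ξ ⤳ x ∧ ξ ∉ D.support := by
  obtain ⟨U, hxU, f, hf, hI⟩ := hD x
  let p : PrimeSpectrum Γ(X, U.1) := U.2.primeIdealOf ⟨x, hxU⟩
  obtain ⟨q, hq, hqp⟩ := Ideal.exists_minimalPrimes_le (bot_le : ⊥ ≤ p.asIdeal)
  have hfq : f ∉ q := fun hfq =>
    Set.disjoint_left.1 (Ideal.disjoint_nonZeroDivisors_of_mem_minimalPrimes hq) hfq hf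
  let ξ' : PrimeSpectrum Γ(X, U.1) := ⟨q, hq.1.1⟩
  refine ⟨U.2.fromSpec ξ', ?_, ?_⟩
  · have h1 : ξ' ⤳ p := (PrimeSpectrum.le_iff_specializes _ _).1 hqp
    have h2 := h1.map U.2.fromSpec.continuous
    rwa [U.2.fromSpec_primeIdealOf ⟨x, hxU⟩] at h2
  · have hmem : U.2.fromSpec ξ' ∈ X.basicOpen f := by
      change ξ' ∈ U.2.fromSpec ⁻¹ᵁ X.basicOpen f
      rw [U.2.fromSpec_preimage_basicOpen]
      exact hfq
    rw [← Groth.Agent.LD.QC.compl_support_inf_eq_basicOpen D U f hI] at hmem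
    exact hmem.1

theorem eq_top_of_univSubmersive {X X' : Scheme.{u}} [IsNoetherian X] [X'.IsSeparated]
    (𝓘 : X.IdealSheafData) (b : X' ⟶ X) [LocallyOfFiniteType b] [QuasiCompact b]
    (hb : BlowUp.IsBlowUp b 𝓘) (U : X'.Opens) (hU : SGA1.UnivSubmersive (U.ι ≫ b)) : U = ⊤ := by
  rw [eq_top_iff]
  intro x' _
  haveI : IsLocallyNoetherian X' := LocallyOfFiniteType.isLocallyNoetherian b
  haveI : CompactSpace X' := QuasiCompact.compactSpace_of_compactSpace b
  haveI : IsNoetherian X' := {}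
  haveI : QuasiCompact U.ι := inferInstance
  haveI : QuasiCompact (U.ι ≫ b) := inferInstance
  haveI : IsSeparated b := inferInstance
  have hval : ValLift (U.ι ≫ b) :=
    univSSubtrusive_iff_valLift.1 ((Groth.Agent.S14770.result _).1 hU)
  haveI hiso : IsIso (b ∣_ 𝓘.support.compl) := Groth.Agent.LD.QC.IsBlowUp.isIso_restrict_compl hb
  set V : X.Opens := 𝓘.support.compl with hV
  obtain ⟨ξ, hξx, hξ⟩ := exists_generization_notMem_support (𝓘.comap b) hb.1 x'
  have hbξ : b ξ ∈ V := by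
    rw [Scheme.IdealSheafData.support_comap] at hξ
    exact hξ
  obtain ⟨A, φ, hφ1, hφ2⟩ := exists_valuationSubring_of_specializes hξx
  obtain ⟨W, hd, hv, ψ, ⟨hψinj, hψloc⟩, g', hg'⟩ := hval (.of A) (φ ≫ b)
  let α : Spec W ⟶ X' := Spec.map ψ ≫ φ
  let β : Spec W ⟶ X' := g' ≫ U.ι
  have hαβ : α ≫ b = β ≫ b := by
    change (Spec.map ψ ≫ φ) ≫ b = (g' ≫ U.ι) ≫ b
    rw [Category.assoc, Category.assoc, hg']
  -- the generic point
  let η : Spec W := (⟨⊥, Ideal.isPrime_bot⟩ : PrimeSpectrum W)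
  have hη1 : Spec.map ψ η = (⟨⊥, Ideal.isPrime_bot⟩ : PrimeSpectrum A) := by
    apply PrimeSpectrum.ext
    change Ideal.comap ψ.hom ⊥ = ⊥
    rw [← RingHom.ker_eq_comap_bot]
    exact (RingHom.injective_iff_ker_eq_bot _).1 hψinj
  have hη2 : φ (⟨⊥, Ideal.isPrime_bot⟩ : PrimeSpectrum A) = ξ := by
    have h1 : (Spec.map (CommRingCat.ofHom (algebraMap A (X'.residueField ξ))) ≫ φ)
        (closedPoint (X'.residueField ξ)) =
        (X'.fromSpecResidueField ξ) (closedPoint (X'.residueField ξ)) := by rw [hφ2]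
    have h2 : (X'.fromSpecResidueField ξ) (closedPoint (X'.residueField ξ)) = ξ :=
      Scheme.fromSpecResidueField_apply ξ _
    have h3 : (⟨⊥, Ideal.isPrime_bot⟩ : PrimeSpectrum A) =
        Spec.map (CommRingCat.ofHom (algebraMap A (X'.residueField ξ)))
          (closedPoint (X'.residueField ξ)) := by
      apply PrimeSpectrum.ext
      change ⊥ = Ideal.comap (algebraMap A (X'.residueField ξ)) (maximalIdeal _)
      rw [IsLocalRing.maximalIdeal_eq_bot, ← RingHom.ker_eq_comap_bot]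
      exact ((RingHom.injective_iff_ker_eq_bot _).1 Subtype.val_injective).symm
    rw [h3]
    exact h1.trans h2
  have hαη : α η = ξ := by
    change φ (Spec.map ψ η) = ξ
    rw [hη1, hη2]
  -- agreement at the generic point
  have hgen : (Spec W).fromSpecResidueField η ≫ α = (Spec W).fromSpecResidueField η ≫ β := by
    set r := (Spec W).fromSpecResidueField η with hr
    have hrange : ∀ (m : Spec ((Spec W).residueField η) ⟶ X'), m ≫ b = r ≫ α ≫ b →
        Set.range m ⊆ Set.range (b ⁻¹ᵁ V).ι := by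
      intro m hm
      rintro _ ⟨y, rfl⟩
      rw [Scheme.Opens.range_ι]
      change b (m y) ∈ V
      have h1 : b (m y) = (m ≫ b) y := rfl
      rw [h1, hm]
      change b (α (r y)) ∈ V
      rw [hr, Scheme.fromSpecResidueField_apply, hαη]
      exact hbξ
    have hm1 : (r ≫ α) ≫ b = r ≫ α ≫ b := Category.assoc _ _ _
    have hm2 : (r ≫ β) ≫ b = r ≫ α ≫ b := by rw [Category.assoc, hαβ]
    let m₁ := IsOpenImmersion.lift (b ⁻¹ᵁ V).ι (r ≫ α) (hrange _ hm1)
    let m₂ := IsOpenImmersion.lift (b ⁻¹ᵁ V).ι (r ≫ β) (hrange _ hm2)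
    have hm₁ : m₁ ≫ (b ⁻¹ᵁ V).ι = r ≫ α := IsOpenImmersion.lift_fac _ _ _
    have hm₂ : m₂ ≫ (b ⁻¹ᵁ V).ι = r ≫ β := IsOpenImmersion.lift_fac _ _ _
    have heq : m₁ = m₂ := by
      rw [← cancel_mono (b ∣_ V), ← cancel_mono V.ι, Category.assoc, Category.assoc,
        morphismRestrict_ι, reassoc_of% hm₁, reassoc_of% hm₂, hαβ]
    rw [← hm₁, ← hm₂, heq]
  haveI : IsDomain ↑W := hd
  haveI : IsReduced (Spec W) := inferInstance
  have hdense : Dense ({η} : Set (Spec W)) := by
    intro y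
    rw [← specializes_iff_mem_closure]
    exact bot_specializes y
  have hab : α = β := ext_of_fromSpecResidueField_eq α β b {η} hdense
    (fun x hx => by rw [Set.mem_singleton_iff.1 hx]; exact hgen) hαβ
  have h1 : α (closedPoint W) = x' := by
    change φ (Spec.map ψ (closedPoint W)) = x'
    have : Spec.map ψ (closedPoint W) = closedPoint A :=
      (isLocalHom_iff_comap_closedPoint (f := ψ.hom)).1 hψloc
    rw [this]
    exact hφ1
  have h2 : β (closedPoint W) ∈ U := (g' (closedPoint W)).2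
  rw [← h1, hab]
  exact h2

end Groth.Agent.H5.HBl
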